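import Cfsg.Agent.Lib.Helper12.O73.Tup

/-!
The orbit of a vector of norm two under the eight generating negatives of reflections: data
(generated, helper12).
-/

set_option autoImplicit false

namespace Cfsg.Agent.Lib.Helper12.O73

/-- the tree: parent index and number of the generator -/
def tab : List (ℕ × ℕ) :=
  [(0, 1), (0, 2), (1, 0), (1, 2), (1, 3), (3, 2), (3, 3), (4, 1), (4, 3), (4, 6), (6, 1), (6, 3),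
   (6, 4), (6, 6), (8, 3), (8, 6), (9, 4), (9, 6), (10, 7), (11, 0), (11, 3), (11, 6), (12, 2), (12, 4),
   (12, 6), (13, 6), (14, 7), (15, 4), (15, 6), (16, 7), (17, 5), (17, 6), (18, 2), (18, 7), (20, 3), (20, 6),
   (21, 2), (21, 4), (21, 6), (22, 2), (22, 7), (23, 4), (23, 6), (24, 5), (24, 6), (25, 2), (25, 7), (26, 7),
   (28, 5), (28, 6), (29, 2), (29, 7), (31, 6), (32, 2), (32, 7), (33, 1), (33, 7), (35, 2), (35, 4), (35, 6),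
   (36, 2), (36, 7), (37, 4), (38, 5), (38, 6), (39, 7), (40, 7), (42, 5), (42, 6), (43, 2), (43, 7), (44, 6),
   (45, 2), (45, 7), (46, 7), (49, 6), (50, 2), (50, 7), (51, 1), (51, 7), (53, 2), (53, 7), (54, 1), (54, 3),
   (54, 7), (56, 7), (57, 6), (58, 4), (59, 5), (59, 6), (60, 7), (61, 7), (63, 3), (63, 5), (64, 6), (65, 7),
   (67, 6), (68, 6), (69, 2), (69, 7), (70, 7), (72, 2), (72, 7), (73, 3), (73, 7), (75, 6), (76, 2), (76, 7),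
   (77, 1), (77, 3), (77, 7), (79, 7), (80, 6), (81, 1), (81, 3), (81, 7), (83, 3), (83, 7), (84, 7), (85, 6),
   (86, 6), (88, 3), (88, 5), (89, 6), (90, 7), (92, 6), (93, 5), (95, 7), (98, 2), (98, 7), (99, 3), (99, 7),
   (101, 6), (102, 3), (102, 7), (104, 7), (105, 6), (107, 1), (107, 3), (107, 7), (109, 3), (109, 7), (110, 7), (111, 6),
   (112, 6), (114, 3), (114, 7), (115, 4), (115, 7), (116, 6), (117, 2), (117, 7), (118, 6), (119, 6), (121, 2), (122, 5),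
   (124, 7), (127, 4), (129, 3), (129, 7), (131, 7), (132, 6), (134, 4), (134, 7), (135, 6), (136, 6), (138, 3), (138, 7),
   (139, 4), (139, 7), (140, 6), (141, 2), (141, 7), (142, 6), (143, 6), (145, 2), (146, 2), (146, 4), (146, 7), (147, 6),
   (148, 7), (149, 6), (151, 6), (151, 7), (152, 6), (153, 2), (154, 2), (155, 3), (156, 4), (159, 4), (159, 7), (160, 6),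
   (161, 6), (163, 7), (164, 6), (166, 2), (167, 2), (167, 4), (167, 7), (168, 6), (169, 7), (170, 6), (172, 6), (172, 7),
   (173, 6), (174, 2), (175, 2), (176, 3), (177, 4), (177, 6), (177, 7), (178, 7), (179, 6), (180, 2), (181, 6), (182, 2),
   (183, 7), (184, 6), (185, 2), (186, 3), (187, 1), (188, 4), (190, 7), (191, 6), (193, 2), (194, 6), (195, 2), (196, 1),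
   (197, 4), (197, 6), (197, 7), (198, 7), (199, 6), (200, 2), (201, 6), (202, 2), (203, 7), (204, 6), (205, 2), (206, 3),
   (207, 1), (208, 4), (209, 3), (209, 6), (209, 7), (210, 7), (211, 6), (212, 6), (213, 2), (214, 3), (215, 2), (216, 1),
   (217, 6), (218, 2), (219, 1), (219, 3), (220, 4), (221, 0), (222, 5), (223, 6), (224, 2), (225, 1), (226, 2), (227, 1),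
   (228, 0), (229, 3), (229, 6), (229, 7), (230, 7), (231, 6), (232, 6), (233, 2), (234, 3), (235, 2), (236, 1), (237, 6),
   (238, 2), (239, 1), (239, 3), (240, 4), (241, 0), (242, 5), (243, 6), (243, 7), (244, 7), (245, 6), (246, 6), (247, 2),
   (248, 2), (249, 1), (249, 3), (250, 4), (251, 1), (251, 3), (252, 0), (253, 2), (254, 1), (254, 3), (255, 0), (255, 3),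
   (256, 4), (257, 5), (260, 2), (261, 1), (262, 0), (263, 1), (263, 3), (264, 0), (266, 6), (266, 7), (267, 7), (268, 6),
   (269, 6), (270, 2), (271, 2), (272, 1), (272, 3), (273, 4), (274, 1), (274, 3), (275, 0), (276, 2), (277, 1), (277, 3),
   (278, 0), (278, 3), (279, 4), (280, 5), (283, 2), (283, 7), (284, 6), (285, 6), (286, 2), (287, 2), (288, 1), (288, 3),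
   (289, 1), (289, 3), (290, 0), (290, 3), (291, 4), (292, 5), (293, 0), (293, 3), (296, 1), (296, 3), (297, 0), (297, 3),
   (298, 4), (299, 3), (300, 4), (301, 5), (303, 1), (303, 3), (304, 0), (306, 0), (306, 3), (309, 2), (309, 7), (310, 6),
   (311, 6), (312, 2), (313, 2), (314, 1), (314, 3), (315, 1), (315, 3), (316, 0), (316, 3), (317, 4), (318, 5), (319, 0),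
   (319, 3), (322, 1), (322, 3), (323, 0), (323, 3), (324, 4), (325, 3), (326, 4), (327, 5), (329, 1), (329, 7), (330, 6),
   (331, 2), (332, 2), (333, 1), (333, 3), (334, 1), (334, 3), (335, 0), (335, 3), (336, 4), (337, 0), (337, 3), (338, 4),
   (339, 3), (340, 4), (341, 5), (343, 3), (344, 2), (345, 0), (345, 3), (346, 4), (347, 3), (348, 2), (348, 4), (349, 5),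
   (350, 4), (351, 5), (353, 0), (353, 3), (356, 3), (357, 2), (358, 1), (358, 7), (359, 6), (360, 2), (361, 2), (362, 1),
   (362, 3), (363, 1), (363, 3), (364, 0), (364, 3), (365, 4), (366, 0), (366, 3), (367, 4), (368, 3), (369, 4), (370, 5),
   (372, 3), (373, 2), (374, 0), (374, 3), (375, 4), (376, 3), (377, 2), (377, 4), (378, 5), (379, 4), (380, 5), (382, 0),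
   (382, 7), (383, 6), (384, 2), (385, 1), (385, 3), (386, 1), (386, 3), (387, 0), (387, 3), (388, 4), (389, 0), (389, 3),
   (390, 4), (391, 3), (392, 2), (392, 4), (393, 5), (394, 3), (395, 2), (395, 4), (396, 5), (397, 4), (398, 5), (400, 2),
   (401, 6), (402, 3), (403, 2), (403, 4), (404, 5), (405, 2), (405, 4), (406, 4), (407, 5), (409, 5), (411, 3), (412, 2),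
   (413, 2), (414, 6), (415, 0), (415, 7), (416, 6), (417, 2), (418, 1), (418, 3), (419, 1), (419, 3), (420, 0), (420, 3),
   (421, 4), (422, 0), (422, 3), (423, 4), (424, 3), (425, 2), (425, 4), (426, 5), (427, 3), (428, 2), (428, 4), (429, 5),
   (430, 4), (431, 5), (433, 2), (434, 6), (437, 5), (440, 5), (442, 5), (446, 2), (447, 1), (447, 3), (448, 0), (448, 3),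
   (449, 4), (450, 0), (450, 3), (451, 4), (452, 3), (453, 2), (453, 4), (454, 5), (455, 3), (456, 2), (456, 4), (457, 5),
   (458, 2), (458, 4), (459, 4), (460, 5), (462, 2), (462, 4), (463, 4), (463, 6), (464, 5), (466, 5), (472, 5), (475, 5),
   (476, 5), (479, 2), (480, 6), (485, 2), (486, 1), (486, 3), (487, 0), (487, 3), (488, 4), (489, 0), (489, 3), (490, 4),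
   (491, 3), (492, 2), (492, 4), (493, 5), (495, 4), (496, 5), (497, 4), (498, 4), (499, 5), (501, 2), (501, 4), (502, 4),
   (502, 6), (503, 5), (505, 5), (512, 3), (513, 3), (514, 4), (515, 3), (516, 2), (516, 4), (517, 5), (518, 3), (519, 2),
   (519, 4), (520, 5), (521, 2), (521, 4), (522, 4), (522, 6), (523, 5), (525, 4), (526, 4), (527, 5), (529, 4), (530, 5),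
   (531, 3), (531, 5), (533, 4), (534, 5), (535, 5), (535, 6), (544, 3), (545, 3), (546, 4), (547, 3), (548, 2), (548, 4),
   (549, 5), (550, 3), (551, 2), (551, 4), (552, 5), (553, 2), (553, 4), (554, 4), (554, 6), (555, 5), (560, 3), (562, 4),
   (563, 5), (564, 5), (564, 6), (568, 4), (569, 2), (569, 4), (570, 5), (571, 2), (571, 4), (572, 4), (572, 6), (573, 5),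
   (575, 2), (575, 4), (576, 4), (576, 6), (577, 5), (579, 4), (580, 5), (581, 3), (581, 5), (581, 6), (585, 3), (587, 3),
   (589, 5), (591, 5), (593, 6), (595, 4), (596, 2), (596, 4), (597, 5), (598, 2), (598, 4), (599, 4), (599, 6), (600, 5),
   (602, 2), (603, 4), (603, 6), (606, 4), (608, 3), (608, 5), (608, 6), (612, 5), (614, 6), (616, 5), (617, 4), (618, 5),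
   (620, 1), (620, 4), (620, 6), (621, 5), (622, 3), (622, 5), (622, 6), (625, 4), (627, 3), (627, 5), (627, 6), (630, 3),
   (630, 5), (632, 5), (632, 6), (633, 6), (640, 5), (641, 4), (642, 5), (644, 1), (644, 4), (644, 6), (645, 5), (646, 3),
   (646, 5), (646, 6), (650, 6), (653, 6), (654, 6), (659, 3), (659, 5), (661, 4), (662, 3), (662, 5), (662, 6), (665, 5),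
   (665, 6), (666, 6), (669, 6), (670, 6), (674, 6)]

/-- the vectors of norm two -/
def orbL : List T7 :=
  [(0, 0, 1, 0, 0, 2, 0), (0, 0, 2, 2, 0, 0, 1), (0, 0, 2, 0, 0, 1, 0), (0, 0, 0, 1, 0, 1, 2),
   (0, 0, 1, 2, 0, 0, 1), (0, 0, 1, 1, 0, 0, 2), (0, 0, 0, 1, 0, 2, 2), (0, 0, 0, 2, 0, 2, 1),
   (0, 0, 2, 1, 0, 0, 2), (0, 1, 0, 1, 1, 1, 1), (0, 1, 0, 0, 2, 1, 0), (0, 0, 0, 1, 0, 0, 2),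
   (0, 2, 2, 2, 2, 0, 2), (0, 0, 0, 2, 0, 1, 1), (0, 2, 2, 0, 1, 0, 0), (0, 2, 0, 2, 2, 2, 2),
   (0, 2, 0, 0, 1, 2, 0), (1, 2, 0, 0, 2, 2, 0), (0, 1, 2, 0, 0, 1, 1), (0, 1, 0, 0, 2, 2, 0),
   (0, 0, 0, 2, 0, 0, 1), (0, 1, 1, 2, 1, 1, 0), (0, 1, 1, 1, 2, 1, 2), (0, 1, 1, 1, 1, 0, 1),
   (2, 1, 1, 0, 1, 0, 0), (0, 2, 2, 0, 0, 1, 2), (0, 1, 1, 0, 2, 0, 0), (0, 2, 1, 0, 1, 0, 0),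
   (2, 1, 0, 0, 1, 1, 0), (0, 2, 1, 0, 0, 2, 2), (0, 2, 0, 0, 1, 1, 0), (2, 0, 0, 1, 0, 1, 1),
   (2, 2, 1, 2, 0, 2, 1), (0, 2, 1, 2, 0, 2, 0), (0, 0, 1, 0, 2, 2, 2), (0, 2, 2, 1, 2, 2, 0),
   (0, 2, 2, 2, 1, 2, 1), (0, 2, 2, 0, 2, 2, 1), (1, 2, 2, 2, 2, 2, 1), (0, 1, 1, 2, 0, 1, 2),
   (0, 2, 2, 1, 1, 2, 2), (0, 1, 2, 2, 2, 2, 1), (1, 2, 2, 0, 2, 0, 0), (0, 1, 1, 0, 0, 2, 1),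
   (1, 0, 2, 2, 0, 0, 2), (1, 1, 1, 1, 0, 2, 2), (0, 1, 1, 1, 0, 2, 0), (0, 0, 1, 0, 1, 2, 1),
   (0, 1, 2, 0, 2, 0, 0), (1, 0, 0, 2, 0, 2, 2), (1, 1, 2, 1, 0, 1, 2), (0, 1, 2, 1, 0, 1, 0),
   (0, 0, 2, 0, 1, 1, 1), (1, 2, 2, 0, 1, 1, 1), (1, 1, 2, 2, 0, 1, 1), (1, 0, 2, 1, 1, 1, 2),
   (0, 1, 2, 2, 0, 2, 2), (0, 0, 2, 1, 1, 1, 0), (0, 1, 1, 0, 1, 1, 2), (2, 1, 1, 1, 1, 1, 2),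
   (0, 2, 2, 1, 0, 2, 1), (0, 1, 1, 2, 2, 1, 1), (0, 2, 1, 1, 1, 1, 2), (2, 1, 1, 2, 1, 1, 1),
   (2, 0, 1, 2, 0, 1, 0), (2, 2, 2, 0, 0, 2, 0), (0, 0, 2, 1, 2, 2, 1), (0, 2, 1, 2, 1, 1, 1),
   (2, 0, 1, 1, 0, 0, 1), (2, 2, 2, 2, 0, 1, 1), (0, 2, 2, 2, 0, 1, 0), (0, 0, 2, 0, 2, 1, 2),
   (2, 1, 2, 0, 2, 1, 2), (2, 2, 2, 1, 0, 1, 2), (2, 0, 2, 2, 2, 1, 1), (0, 0, 2, 2, 2, 1, 0),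
   (2, 1, 1, 0, 2, 2, 2), (2, 2, 1, 1, 0, 2, 2), (2, 0, 1, 2, 2, 2, 1), (0, 2, 1, 1, 0, 1, 1),
   (0, 0, 1, 2, 2, 2, 0), (2, 1, 1, 2, 2, 2, 0), (2, 2, 1, 0, 1, 2, 2), (2, 2, 1, 0, 0, 1, 0),
   (2, 0, 2, 1, 1, 0, 1), (2, 0, 1, 1, 2, 2, 2), (0, 0, 1, 1, 2, 1, 1), (0, 1, 2, 1, 1, 0, 1),
   (1, 2, 2, 1, 2, 2, 2), (1, 0, 2, 1, 0, 2, 0), (1, 1, 1, 0, 0, 1, 0), (0, 0, 1, 2, 1, 1, 2),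
   (0, 1, 2, 1, 2, 2, 2), (1, 0, 0, 1, 0, 0, 1), (1, 0, 2, 0, 0, 2, 1), (1, 2, 1, 2, 1, 1, 2),
   (1, 0, 1, 0, 1, 1, 0), (0, 2, 0, 0, 1, 0, 0), (1, 2, 1, 0, 1, 2, 1), (1, 1, 1, 2, 0, 2, 1),
   (1, 0, 1, 1, 1, 2, 2), (0, 0, 1, 1, 1, 2, 0), (1, 2, 1, 1, 1, 2, 0), (1, 1, 1, 0, 2, 2, 1),
   (1, 0, 0, 2, 2, 1, 2), (1, 0, 1, 2, 1, 2, 1), (0, 2, 0, 2, 2, 1, 2), (1, 2, 2, 1, 1, 1, 0),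
   (1, 1, 2, 0, 2, 1, 1), (1, 1, 2, 0, 0, 2, 0), (1, 0, 1, 2, 2, 0, 2), (1, 0, 2, 2, 1, 1, 1),
   (0, 0, 2, 2, 1, 2, 2), (0, 2, 1, 2, 2, 0, 2), (1, 2, 2, 2, 1, 2, 2), (1, 1, 1, 1, 0, 0, 1),
   (1, 1, 2, 1, 2, 1, 0), (1, 0, 1, 0, 2, 1, 1), (1, 0, 2, 0, 1, 2, 0), (1, 2, 1, 2, 0, 0, 2),
   (1, 2, 1, 0, 2, 0, 0), (0, 2, 1, 0, 2, 1, 1), (2, 0, 0, 2, 0, 0, 2), (2, 0, 1, 0, 0, 1, 2),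
   (2, 1, 2, 1, 2, 2, 1), (2, 0, 2, 0, 2, 2, 0), (0, 1, 0, 0, 2, 0, 0), (2, 2, 0, 0, 2, 0, 0),
   (2, 2, 2, 1, 1, 2, 1), (2, 1, 2, 2, 2, 1, 0), (2, 2, 2, 0, 1, 1, 2), (2, 0, 0, 1, 1, 2, 1),
   (2, 0, 2, 1, 2, 1, 2), (0, 1, 0, 1, 1, 2, 1), (2, 2, 0, 2, 0, 2, 2), (2, 2, 2, 2, 1, 1, 0),
   (2, 1, 0, 1, 0, 2, 1), (2, 1, 0, 0, 1, 2, 0), (2, 1, 1, 1, 2, 1, 1), (2, 2, 2, 2, 0, 0, 2),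
   (2, 2, 1, 2, 1, 2, 0), (2, 0, 2, 0, 1, 2, 2), (2, 0, 1, 0, 2, 1, 0), (2, 1, 2, 1, 0, 0, 1),
   (2, 1, 2, 0, 1, 0, 0), (0, 1, 2, 0, 1, 2, 2), (2, 2, 2, 1, 0, 2, 0), (2, 2, 1, 1, 1, 1, 1),
   (1, 2, 2, 1, 0, 0, 1), (2, 0, 2, 2, 2, 0, 2), (2, 0, 2, 1, 0, 0, 1), (2, 0, 2, 2, 1, 2, 0),
   (2, 1, 2, 0, 0, 2, 2), (2, 1, 2, 2, 1, 2, 1), (2, 2, 0, 0, 2, 1, 2), (0, 1, 2, 2, 1, 2, 0),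
   (1, 1, 0, 0, 1, 0, 0), (1, 1, 1, 2, 2, 1, 2), (0, 1, 0, 2, 1, 0, 2), (1, 1, 0, 1, 0, 1, 1),
   (1, 1, 1, 1, 2, 2, 0), (1, 2, 0, 2, 0, 1, 2), (1, 2, 0, 0, 2, 1, 0), (2, 1, 0, 2, 0, 1, 2),
   (1, 0, 0, 1, 1, 1, 1), (1, 0, 0, 2, 0, 1, 2), (1, 1, 2, 0, 1, 0, 1), (1, 1, 1, 2, 0, 1, 0),
   (1, 1, 2, 2, 2, 2, 2), (2, 1, 1, 2, 0, 0, 2), (1, 0, 1, 1, 1, 0, 1), (1, 0, 1, 2, 0, 0, 2),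
   (1, 0, 1, 1, 2, 1, 0), (1, 2, 1, 0, 0, 1, 1), (1, 2, 1, 1, 2, 1, 2), (1, 1, 0, 0, 1, 2, 1),
   (0, 2, 1, 1, 2, 1, 0), (1, 1, 1, 0, 0, 1, 2), (2, 1, 1, 0, 0, 1, 1), (1, 0, 1, 2, 1, 1, 0),
   (1, 0, 1, 0, 0, 1, 1), (2, 0, 1, 2, 1, 0, 2), (1, 2, 0, 2, 2, 2, 0), (1, 2, 0, 2, 0, 0, 2),
   (1, 2, 1, 1, 0, 1, 0), (1, 1, 0, 1, 1, 0, 0), (1, 2, 1, 2, 2, 1, 1), (1, 1, 0, 1, 1, 2, 0),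
   (0, 1, 0, 1, 1, 0, 1), (0, 2, 0, 1, 2, 0, 1), (1, 2, 0, 1, 0, 2, 1), (2, 0, 0, 2, 2, 2, 2),
   (2, 0, 0, 1, 0, 2, 1), (2, 2, 1, 0, 2, 0, 2), (1, 0, 0, 1, 2, 2, 1), (2, 1, 1, 1, 1, 0, 0),
   (2, 2, 1, 2, 2, 0, 0), (2, 2, 2, 0, 0, 2, 1), (1, 2, 2, 0, 0, 2, 2), (2, 0, 2, 1, 2, 2, 0),
   (2, 0, 2, 0, 0, 2, 2), (1, 0, 2, 1, 2, 0, 1), (2, 1, 0, 1, 1, 1, 0), (2, 1, 0, 1, 0, 0, 1),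
   (2, 1, 2, 2, 0, 2, 0), (2, 2, 0, 2, 2, 0, 0), (2, 1, 2, 1, 1, 2, 2), (2, 2, 0, 2, 2, 1, 0),
   (0, 2, 0, 2, 2, 0, 2), (1, 2, 2, 2, 0, 2, 0), (2, 0, 0, 2, 2, 0, 2), (2, 0, 2, 0, 2, 2, 1),
   (1, 0, 2, 0, 2, 2, 2), (2, 1, 0, 0, 1, 0, 1), (2, 0, 2, 2, 0, 2, 0), (1, 1, 0, 0, 1, 1, 2),
   (2, 1, 0, 0, 1, 1, 1), (2, 0, 0, 1, 1, 0, 1), (2, 0, 1, 0, 1, 1, 2), (2, 2, 0, 0, 2, 0, 2),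
   (2, 0, 1, 1, 0, 1, 0), (2, 2, 0, 0, 2, 2, 2), (1, 2, 0, 0, 2, 0, 0), (2, 0, 0, 2, 1, 1, 2),
   (1, 2, 2, 2, 2, 0, 0), (1, 1, 2, 1, 1, 0, 0), (2, 2, 2, 0, 2, 0, 1), (1, 2, 2, 0, 2, 0, 2),
   (1, 1, 2, 2, 1, 1, 2), (2, 1, 1, 1, 0, 1, 0), (1, 0, 0, 1, 1, 0, 1), (1, 0, 1, 0, 1, 1, 2),
   (2, 0, 1, 0, 1, 1, 1), (1, 2, 0, 0, 2, 0, 2), (1, 0, 1, 1, 0, 1, 0), (2, 2, 0, 0, 2, 2, 1),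
   (1, 2, 0, 0, 2, 2, 2), (1, 0, 0, 2, 2, 0, 2), (1, 0, 2, 0, 2, 2, 1), (1, 1, 0, 0, 1, 0, 1),
   (1, 0, 2, 2, 0, 2, 0), (1, 1, 0, 0, 1, 1, 1), (2, 1, 0, 0, 1, 0, 0), (2, 0, 0, 1, 2, 0, 1),
   (2, 0, 0, 2, 1, 0, 2), (2, 0, 1, 1, 1, 1, 0), (1, 1, 0, 1, 0, 0, 1), (1, 1, 2, 2, 0, 2, 0),
   (2, 2, 0, 1, 2, 0, 0), (1, 2, 0, 2, 2, 0, 0), (1, 1, 2, 1, 1, 2, 2), (2, 2, 0, 1, 2, 2, 0),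
   (1, 2, 0, 2, 2, 1, 0), (1, 2, 2, 0, 0, 2, 1), (1, 0, 2, 1, 2, 2, 0), (1, 1, 0, 1, 1, 1, 0),
   (1, 0, 2, 0, 0, 2, 2), (2, 0, 2, 0, 0, 2, 1), (1, 1, 1, 0, 1, 0, 1), (2, 0, 0, 1, 0, 0, 1),
   (1, 1, 1, 0, 1, 0, 2), (2, 1, 1, 0, 1, 0, 1), (2, 2, 1, 1, 2, 2, 1), (1, 1, 1, 2, 1, 0, 0),
   (2, 1, 1, 2, 1, 2, 2), (2, 2, 2, 1, 2, 1, 1), (1, 0, 0, 2, 1, 0, 2), (1, 0, 0, 1, 2, 0, 1),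
   (1, 0, 2, 2, 2, 2, 0), (2, 2, 0, 2, 0, 0, 2), (2, 2, 1, 1, 0, 1, 0), (1, 1, 0, 2, 1, 0, 0),
   (2, 1, 0, 1, 1, 0, 0), (2, 2, 1, 2, 2, 1, 1), (1, 1, 0, 2, 1, 1, 0), (2, 1, 0, 1, 1, 2, 0),
   (2, 1, 1, 0, 0, 1, 2), (2, 0, 1, 2, 1, 1, 0), (2, 2, 0, 2, 2, 2, 0), (2, 0, 1, 0, 0, 1, 1),
   (1, 0, 1, 0, 0, 1, 2), (2, 2, 2, 0, 2, 0, 2), (1, 0, 0, 2, 0, 0, 2), (1, 1, 1, 1, 0, 1, 0),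
   (1, 1, 0, 2, 0, 0, 2), (1, 2, 0, 1, 0, 0, 1), (1, 2, 1, 0, 0, 1, 2), (2, 0, 1, 1, 2, 1, 0),
   (2, 2, 1, 0, 0, 1, 1), (1, 1, 0, 0, 1, 0, 2), (2, 1, 0, 0, 1, 2, 1), (2, 2, 1, 1, 2, 1, 2),
   (0, 2, 1, 0, 2, 1, 2), (1, 1, 0, 0, 1, 2, 2), (1, 2, 1, 2, 2, 2, 2), (2, 1, 2, 1, 1, 0, 0),
   (2, 1, 1, 2, 0, 1, 0), (2, 0, 1, 1, 1, 0, 1), (2, 1, 2, 2, 2, 2, 2), (2, 2, 2, 2, 2, 0, 0),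
   (2, 0, 1, 2, 0, 0, 2), (1, 0, 1, 2, 0, 1, 0), (1, 1, 1, 2, 1, 1, 1), (2, 2, 2, 1, 2, 0, 0),
   (1, 2, 2, 1, 2, 1, 1), (1, 1, 1, 2, 1, 2, 2), (2, 2, 2, 2, 2, 1, 2), (2, 1, 1, 1, 1, 2, 1),
   (1, 2, 1, 1, 2, 2, 1), (2, 2, 2, 2, 0, 2, 0), (2, 2, 0, 1, 0, 0, 1), (2, 1, 0, 2, 0, 0, 2),
   (2, 1, 2, 0, 0, 2, 1), (1, 0, 2, 2, 1, 2, 0), (1, 1, 2, 0, 0, 2, 2), (2, 2, 0, 0, 2, 0, 1),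
   (1, 2, 0, 0, 2, 1, 2), (1, 1, 2, 2, 1, 2, 1), (0, 1, 2, 0, 1, 2, 1), (2, 2, 0, 0, 2, 1, 1),
   (2, 1, 2, 1, 1, 1, 1), (1, 2, 1, 2, 2, 0, 0), (1, 2, 2, 1, 0, 2, 0), (1, 0, 2, 2, 2, 0, 2),
   (1, 2, 1, 1, 1, 1, 1), (1, 1, 1, 1, 1, 0, 0), (1, 0, 2, 1, 0, 0, 1), (2, 0, 2, 1, 0, 2, 0),
   (2, 2, 2, 1, 2, 2, 2), (2, 2, 2, 0, 0, 2, 2), (2, 0, 2, 2, 2, 2, 0), (2, 0, 1, 0, 2, 1, 2),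
   (2, 0, 2, 0, 1, 2, 1), (2, 1, 2, 1, 0, 2, 0), (1, 0, 2, 0, 1, 2, 2), (1, 1, 2, 1, 0, 0, 1),
   (1, 0, 1, 0, 2, 1, 0), (2, 2, 0, 1, 2, 1, 0), (2, 0, 1, 0, 0, 1, 0), (1, 2, 1, 0, 2, 0, 2),
   (1, 1, 2, 0, 1, 0, 0), (0, 1, 2, 1, 1, 2, 0), (0, 2, 2, 2, 2, 2, 0), (2, 2, 1, 0, 2, 0, 1),
   (2, 1, 2, 0, 1, 0, 2), (1, 2, 2, 2, 0, 0, 2), (1, 1, 1, 1, 2, 1, 1), (1, 0, 0, 2, 2, 2, 2),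
   (1, 2, 1, 2, 1, 2, 0), (2, 2, 1, 2, 1, 1, 2), (1, 0, 0, 1, 0, 2, 1), (2, 0, 2, 2, 0, 0, 2),
   (2, 2, 2, 2, 2, 2, 1), (1, 1, 1, 1, 1, 2, 1), (1, 2, 2, 2, 2, 1, 2), (2, 1, 2, 2, 1, 1, 2),
   (1, 1, 2, 1, 1, 1, 1), (1, 2, 2, 1, 2, 0, 0), (1, 1, 1, 0, 0, 1, 1), (1, 0, 1, 1, 1, 1, 0),
   (1, 0, 2, 0, 1, 2, 1), (1, 0, 1, 0, 2, 1, 2), (1, 2, 1, 2, 0, 1, 0), (2, 0, 1, 0, 2, 1, 1),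
   (2, 2, 1, 2, 0, 0, 2), (2, 0, 2, 0, 1, 2, 0), (1, 1, 0, 2, 1, 2, 0), (1, 0, 2, 0, 0, 2, 0),
   (2, 1, 2, 0, 1, 0, 1), (2, 2, 1, 0, 2, 0, 0), (0, 2, 1, 2, 2, 1, 0), (0, 1, 1, 1, 1, 1, 0),
   (1, 1, 2, 0, 1, 0, 2), (1, 2, 1, 0, 2, 0, 1), (2, 1, 1, 1, 0, 0, 1), (2, 2, 2, 2, 1, 2, 2),
   (2, 0, 0, 1, 1, 1, 1), (2, 1, 2, 1, 2, 1, 0), (1, 1, 2, 1, 2, 2, 1), (2, 0, 0, 2, 0, 1, 2),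
   (1, 0, 1, 1, 0, 0, 1), (1, 1, 1, 1, 1, 1, 2), (1, 1, 1, 2, 0, 0, 2), (1, 0, 1, 0, 1, 1, 1),
   (1, 1, 2, 0, 0, 2, 1), (1, 0, 2, 1, 1, 2, 0), (1, 0, 1, 2, 2, 1, 0), (1, 2, 1, 1, 0, 0, 1),
   (1, 1, 0, 2, 2, 0, 1), (2, 0, 1, 2, 2, 0, 2), (2, 1, 2, 0, 0, 2, 0), (2, 2, 0, 2, 0, 1, 2),
   (2, 0, 2, 2, 1, 1, 1), (0, 0, 2, 1, 1, 2, 1), (1, 1, 2, 2, 1, 0, 0), (1, 0, 2, 2, 0, 1, 1),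
   (0, 0, 2, 2, 0, 2, 2), (2, 2, 0, 0, 2, 1, 0), (0, 2, 1, 1, 2, 0, 1), (0, 1, 1, 0, 1, 1, 1),
   (1, 2, 0, 0, 2, 1, 1), (1, 2, 1, 1, 2, 0, 0), (2, 1, 0, 1, 0, 1, 1), (2, 2, 2, 1, 1, 1, 0),
   (1, 2, 2, 1, 1, 2, 1), (2, 1, 1, 1, 2, 2, 0), (2, 1, 2, 0, 2, 1, 1), (1, 1, 2, 0, 2, 1, 2),
   (1, 2, 2, 0, 0, 2, 0), (1, 0, 0, 1, 0, 1, 1), (1, 1, 1, 0, 1, 0, 0), (2, 2, 1, 2, 2, 2, 2),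
   (2, 1, 1, 2, 1, 0, 0), (2, 1, 0, 2, 1, 1, 0), (2, 1, 1, 0, 1, 0, 2), (2, 2, 2, 1, 0, 0, 1),
   (2, 0, 2, 0, 2, 2, 2), (2, 2, 1, 0, 0, 1, 2), (2, 0, 1, 2, 2, 1, 0), (2, 0, 2, 1, 1, 2, 0),
   (2, 1, 2, 2, 0, 0, 2), (2, 2, 0, 1, 1, 0, 2), (1, 0, 2, 1, 1, 0, 1), (1, 2, 1, 0, 0, 1, 0),
   (1, 1, 0, 1, 0, 2, 1), (1, 0, 1, 1, 2, 2, 2), (0, 0, 1, 2, 2, 1, 2), (2, 2, 1, 1, 2, 0, 0),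
   (2, 0, 1, 1, 0, 2, 2), (0, 0, 1, 1, 0, 1, 1), (1, 1, 0, 0, 1, 2, 0), (0, 1, 2, 2, 1, 0, 2),
   (0, 2, 2, 0, 2, 2, 2), (2, 1, 0, 0, 1, 2, 2), (2, 1, 2, 2, 1, 0, 0), (1, 2, 0, 2, 0, 2, 2),
   (1, 1, 1, 2, 2, 2, 0), (2, 1, 1, 2, 2, 1, 2), (1, 2, 2, 2, 1, 1, 0), (1, 2, 1, 0, 1, 2, 2),
   (2, 2, 1, 0, 1, 2, 1), (2, 1, 1, 0, 0, 1, 0), (2, 0, 0, 2, 0, 2, 2), (2, 2, 2, 0, 2, 0, 0),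
   (2, 2, 0, 1, 0, 2, 1), (2, 0, 2, 1, 2, 0, 1), (2, 1, 0, 2, 1, 0, 0), (2, 2, 1, 2, 0, 1, 0),
   (2, 0, 1, 1, 2, 0, 1), (2, 2, 0, 2, 1, 0, 1), (2, 0, 2, 2, 1, 0, 2), (2, 1, 0, 1, 2, 0, 2),
   (2, 1, 0, 2, 0, 2, 2), (2, 2, 0, 2, 1, 1, 1), (0, 2, 0, 2, 1, 0, 0), (1, 0, 0, 1, 1, 2, 1),
   (1, 2, 1, 1, 0, 2, 2), (0, 2, 1, 2, 0, 1, 2), (1, 0, 2, 1, 2, 1, 2), (1, 0, 1, 2, 2, 2, 1),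
   (0, 0, 1, 0, 2, 2, 1), (0, 1, 1, 1, 0, 1, 1), (2, 0, 2, 1, 0, 1, 2), (2, 0, 1, 2, 0, 2, 1),
   (0, 0, 1, 2, 0, 2, 0), (0, 1, 1, 0, 1, 1, 0), (0, 1, 0, 2, 1, 2, 2), (0, 2, 2, 1, 2, 0, 1),
   (2, 1, 0, 2, 1, 2, 0), (2, 2, 0, 1, 0, 1, 1), (1, 1, 2, 2, 2, 1, 0), (1, 1, 1, 0, 2, 2, 2),
   (2, 1, 1, 0, 2, 2, 1), (2, 0, 1, 0, 1, 1, 0), (1, 2, 2, 0, 1, 1, 2), (2, 2, 2, 0, 1, 1, 1),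
   (2, 2, 1, 1, 1, 2, 0), (2, 1, 1, 1, 0, 2, 2), (2, 2, 0, 0, 2, 2, 0), (1, 2, 0, 1, 2, 2, 0),
   (1, 2, 2, 0, 2, 0, 1), (1, 2, 0, 0, 2, 2, 1), (1, 0, 0, 2, 1, 1, 2), (1, 1, 0, 2, 0, 1, 2),
   (1, 0, 1, 2, 1, 0, 2), (1, 2, 0, 1, 2, 0, 0), (1, 1, 2, 1, 0, 2, 0), (1, 0, 2, 2, 1, 0, 2),
   (1, 1, 0, 1, 2, 0, 2), (1, 0, 1, 1, 2, 0, 1), (1, 2, 0, 2, 1, 0, 1), (1, 2, 0, 1, 0, 1, 1),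
   (1, 1, 0, 1, 2, 2, 2), (0, 1, 0, 1, 2, 0, 0), (2, 0, 0, 2, 2, 1, 2), (2, 1, 2, 2, 0, 1, 1),
   (0, 1, 2, 1, 0, 2, 1), (2, 0, 1, 2, 1, 2, 1), (2, 0, 2, 1, 1, 1, 2), (0, 0, 2, 0, 1, 1, 2),
   (0, 2, 2, 2, 0, 2, 2), (1, 0, 1, 2, 0, 2, 1), (1, 0, 2, 1, 0, 1, 2), (0, 0, 2, 1, 0, 1, 0),
   (0, 2, 2, 0, 2, 2, 0), (0, 2, 0, 1, 2, 1, 1), (0, 1, 1, 2, 1, 0, 2), (1, 2, 0, 1, 2, 1, 0),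
   (1, 1, 0, 2, 0, 2, 2), (1, 0, 2, 0, 2, 2, 0), (1, 2, 2, 2, 0, 1, 1), (1, 1, 0, 0, 1, 1, 0),
   (1, 2, 0, 0, 2, 0, 1), (1, 1, 2, 2, 0, 0, 2), (1, 2, 0, 1, 1, 0, 2), (1, 0, 0, 2, 1, 2, 2),
   (1, 1, 0, 2, 2, 1, 1), (0, 1, 0, 0, 2, 0, 1), (1, 0, 0, 1, 2, 1, 1), (1, 2, 0, 1, 1, 2, 2),
   (0, 2, 0, 1, 1, 0, 0), (1, 1, 2, 1, 2, 0, 2), (1, 1, 0, 2, 2, 2, 1), (0, 1, 0, 0, 2, 2, 1),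
   (0, 0, 0, 2, 1, 0, 1), (2, 1, 1, 2, 0, 2, 1), (2, 1, 2, 1, 0, 1, 2), (0, 1, 2, 0, 0, 1, 2),
   (0, 0, 2, 2, 2, 2, 2), (2, 0, 1, 1, 1, 2, 2), (0, 0, 1, 0, 1, 2, 2), (0, 0, 2, 2, 1, 1, 0),
   (0, 2, 2, 1, 0, 1, 0), (1, 0, 1, 1, 0, 2, 2), (0, 0, 1, 1, 0, 2, 0), (0, 0, 2, 0, 0, 1, 1),
   (1, 2, 1, 2, 1, 0, 1), (0, 2, 2, 2, 2, 1, 1), (0, 1, 0, 2, 1, 1, 2), (1, 0, 2, 2, 2, 1, 1),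
   (1, 2, 1, 2, 0, 2, 1), (1, 2, 2, 1, 0, 1, 2), (2, 1, 0, 0, 1, 1, 2), (2, 0, 0, 1, 2, 2, 1),
   (2, 1, 0, 0, 1, 0, 2), (2, 2, 1, 1, 0, 0, 1), (2, 1, 0, 2, 2, 0, 1), (2, 0, 0, 1, 2, 1, 1),
   (2, 2, 0, 1, 1, 2, 2), (0, 2, 0, 0, 1, 0, 2), (2, 0, 0, 2, 1, 2, 2), (2, 1, 0, 2, 2, 1, 1),
   (0, 1, 0, 2, 2, 0, 0), (2, 2, 1, 2, 1, 0, 1), (2, 2, 0, 1, 1, 1, 2), (0, 2, 0, 0, 1, 1, 2),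
   (0, 0, 0, 1, 2, 0, 2), (0, 2, 1, 0, 0, 2, 1), (0, 0, 1, 1, 1, 1, 1), (0, 0, 2, 0, 2, 1, 1),
   (0, 0, 1, 1, 2, 2, 0), (0, 1, 1, 2, 0, 2, 0), (2, 0, 2, 2, 0, 1, 1), (0, 0, 2, 2, 0, 1, 0),
   (0, 0, 1, 0, 0, 2, 2), (2, 1, 2, 1, 2, 0, 2), (0, 1, 1, 1, 1, 2, 2), (0, 2, 0, 1, 2, 2, 1),
   (2, 0, 2, 0, 0, 2, 0), (2, 1, 0, 1, 2, 2, 2), (0, 1, 0, 0, 2, 0, 2), (2, 2, 2, 1, 1, 0, 2),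
   (2, 2, 0, 2, 1, 2, 1), (0, 2, 0, 2, 1, 2, 0), (0, 0, 0, 2, 2, 0, 1), (2, 1, 1, 2, 2, 0, 1),
   (2, 1, 0, 1, 2, 1, 2), (0, 1, 0, 0, 2, 1, 2), (0, 2, 0, 1, 0, 0, 2), (2, 2, 1, 1, 1, 0, 2),
   (0, 2, 1, 0, 1, 0, 2), (0, 2, 0, 2, 1, 1, 0), (2, 1, 2, 2, 2, 0, 1), (0, 0, 0, 2, 2, 1, 1),
   (0, 2, 2, 0, 0, 1, 1), (0, 2, 1, 1, 0, 2, 0), (0, 0, 1, 2, 1, 2, 0), (0, 0, 2, 1, 2, 1, 0),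
   (0, 1, 2, 2, 0, 1, 0), (0, 1, 2, 1, 0, 0, 2), (0, 1, 1, 0, 0, 2, 2), (0, 0, 2, 0, 0, 1, 2),
   (0, 1, 2, 1, 1, 1, 2), (0, 1, 1, 2, 1, 2, 1), (0, 1, 2, 2, 2, 0, 0), (1, 0, 1, 0, 0, 1, 0),
   (1, 2, 0, 2, 1, 1, 1), (0, 2, 0, 0, 1, 0, 1), (1, 1, 1, 2, 2, 0, 1), (1, 1, 0, 1, 2, 1, 2),
   (0, 1, 0, 1, 2, 1, 0), (0, 0, 0, 1, 1, 0, 2), (1, 2, 2, 1, 1, 0, 2), (1, 2, 0, 2, 1, 2, 1),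
   (0, 2, 0, 0, 1, 2, 1), (0, 1, 0, 2, 0, 0, 1), (1, 1, 2, 2, 2, 0, 1), (0, 1, 2, 0, 2, 0, 1),
   (0, 1, 0, 1, 2, 2, 0), (1, 2, 1, 1, 1, 0, 2), (0, 0, 0, 1, 1, 2, 2), (0, 2, 1, 2, 0, 0, 1),
   (0, 0, 1, 0, 0, 2, 1), (0, 2, 1, 2, 2, 2, 1), (0, 2, 2, 1, 2, 1, 2), (0, 2, 1, 1, 1, 0, 0),
   (0, 0, 1, 2, 0, 1, 2), (1, 2, 0, 1, 1, 1, 2), (0, 2, 0, 1, 1, 1, 0), (0, 1, 0, 1, 0, 0, 2),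
   (1, 1, 1, 1, 2, 0, 2), (0, 1, 1, 1, 2, 0, 0), (0, 1, 0, 0, 2, 1, 1), (1, 2, 1, 0, 1, 2, 0),
   (0, 0, 0, 2, 1, 1, 1), (1, 2, 2, 2, 1, 0, 1), (0, 2, 2, 0, 1, 0, 1), (0, 2, 0, 1, 1, 2, 0),
   (1, 1, 2, 0, 2, 1, 0), (0, 1, 0, 1, 0, 2, 2), (0, 1, 2, 1, 2, 0, 0), (0, 0, 2, 1, 1, 0, 2),
   (0, 2, 1, 1, 0, 0, 2), (0, 0, 0, 2, 1, 2, 1), (0, 2, 1, 0, 1, 0, 1), (0, 0, 1, 2, 2, 0, 1),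
   (0, 2, 0, 2, 0, 1, 1), (0, 1, 1, 0, 2, 0, 2), (0, 2, 1, 1, 2, 2, 2), (0, 1, 1, 2, 0, 0, 1),
   (0, 0, 2, 1, 0, 2, 1), (2, 1, 0, 2, 2, 2, 1), (0, 1, 0, 2, 2, 2, 0), (0, 2, 0, 2, 0, 0, 1),
   (2, 2, 2, 2, 1, 0, 1), (0, 2, 2, 2, 1, 0, 0), (0, 2, 0, 0, 1, 2, 2), (2, 1, 2, 0, 2, 1, 0),
   (0, 0, 0, 1, 2, 2, 2), (2, 1, 1, 1, 2, 0, 2), (0, 1, 0, 2, 2, 1, 0), (2, 2, 1, 0, 1, 2, 0),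
   (0, 2, 1, 2, 1, 0, 0), (0, 1, 2, 2, 0, 0, 1), (0, 0, 0, 1, 2, 1, 2), (0, 1, 2, 0, 2, 0, 2),
   (0, 1, 2, 2, 1, 1, 1), (0, 2, 2, 1, 0, 0, 2), (0, 1, 2, 0, 1, 2, 0), (0, 1, 0, 0, 2, 2, 2),
   (0, 2, 0, 1, 0, 2, 2), (2, 2, 2, 0, 1, 1, 0), (0, 2, 2, 0, 1, 0, 2), (2, 1, 1, 0, 2, 2, 0),
   (0, 0, 2, 1, 2, 0, 2), (0, 1, 2, 0, 0, 1, 0), (0, 0, 0, 2, 2, 2, 1), (0, 1, 2, 1, 2, 1, 1),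
   (0, 1, 1, 2, 2, 0, 0), (0, 0, 2, 2, 1, 0, 1), (0, 2, 0, 1, 0, 1, 2), (0, 2, 1, 1, 1, 2, 1),
   (0, 1, 0, 2, 0, 2, 1), (0, 0, 1, 1, 2, 0, 2), (0, 2, 2, 1, 1, 0, 0), (0, 0, 1, 0, 1, 2, 0),
   (0, 2, 2, 2, 0, 0, 1), (0, 2, 1, 0, 2, 1, 0), (0, 2, 0, 0, 1, 1, 1), (0, 1, 0, 2, 0, 1, 1),
   (1, 1, 1, 0, 2, 2, 0), (0, 1, 1, 0, 2, 0, 1), (1, 2, 2, 0, 1, 1, 0), (0, 0, 1, 2, 1, 0, 1),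
   (0, 2, 1, 0, 0, 2, 0), (0, 0, 0, 1, 1, 1, 2), (0, 2, 1, 2, 1, 2, 2), (0, 1, 2, 2, 2, 1, 2),
   (0, 0, 2, 0, 2, 1, 0), (0, 1, 1, 1, 0, 0, 2), (0, 0, 1, 0, 2, 2, 0), (0, 1, 0, 1, 0, 1, 2),
   (0, 1, 1, 2, 2, 2, 2), (0, 2, 2, 0, 0, 1, 0), (0, 0, 1, 1, 1, 0, 2), (0, 2, 2, 2, 1, 1, 2),
   (0, 1, 1, 1, 2, 2, 1), (0, 0, 2, 2, 2, 0, 1), (0, 1, 1, 0, 0, 2, 0), (0, 2, 0, 2, 0, 2, 1),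
   (0, 0, 2, 0, 1, 1, 0), (0, 2, 2, 1, 1, 1, 1)]

end Cfsg.Agent.Lib.Helper12.O73
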