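import Cfsg.Agent.Lib.Helper12.O73.Data
import Cfsg.Agent.Lib.Helper12.Ord.Fi22P1
import Cfsg.Agent.Lib.Helper12.Ord.Perfect

/-!
The group presented on the generators `b, …, i` of the presentation of `Fi22` maps onto a normal subgroup
of the isometry group of the orthogonal space of dimension seven over the field with three elements,
contained in the commutator subgroup (helper12).
-/

set_option autoImplicit false

namespace Cfsg.Agent.Lib.Helper12.O73

open Matrix Cfsg.Spor Cfsg.Agent.Lib.Helper16 Cfsg.Agent.Lib.helper6 Cfsg.Agent.Lib.Helper12.Ord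

/-- the homomorphism from a group presented in the style of Coxeter -/
theorem cox_hom {α : Type} [DecidableEq α] {G : Type*} [Group G] (edges : List (α × ℕ × α))
    (extra : List (FreeGroup α)) (f : α → G)
    (hcox : ∀ x ∈ coxNodes edges, ∀ y ∈ coxNodes edges, (f x * f y) ^ coxLabel edges x y = 1)
    (hextra : ∀ r ∈ extra, FreeGroup.lift f r = 1) :
    ∃ φ : CoxPresented α edges extra →* G, ∀ x, φ (PresentedGroup.of x) = f x := by
  have hf : ∀ r ∈ coxRelators edges ∪ {r | r ∈ extra}, FreeGroup.lift f r = 1 := by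
    rintro r (⟨x, hx, y, hy, rfl⟩ | hr)
    · rw [map_pow, map_mul, FreeGroup.lift_apply_of, FreeGroup.lift_apply_of]
      exact hcox x hx y hy
    · exact hextra r hr
  exact ⟨PresentedGroup.toGroup hf, fun x => PresentedGroup.toGroup.of hf⟩

/-- the isometry group -/
abbrev O7 : Type := ↥(Cfsg.isometryGroup K ⇑Q7)

/-- the generators -/
abbrev Gen : Type := Fi22P1.Gen

/-- the vectors of the generators -/
def gv : Gen → T7
  | .b => (0, 0, 1, 0, 0, 2, 0)
  | .c => (0, 0, 0, 1, 0, 1, 2)
  | .d => (0, 0, 0, 1, 0, 0, 2)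
  | .e => (0, 1, 1, 0, 1, 1, 2)
  | .f => (1, 0, 0, 1, 0, 0, 1)
  | .g => (0, 1, 0, 2, 1, 0, 2)
  | .h => (0, 1, 1, 2, 2, 1, 1)
  | .i => (0, 1, 0, 0, 2, 0, 0)

theorem hgv (s : Gen) : qT (gv s) = 2 := by cases s <;> decide

theorem hgv0 (s : Gen) : Q7 (vec (gv s)) ≠ 0 := by
  rw [Q7_vec, hgv]
  decide

/-- the images of the generators -/
noncomputable def M (s : Gen) : O7 := nrefl (vec (gv s)) (hgv0 s)

/-- the action of a word on tuples -/
def actW (l : List Gen) (x : T7) : T7 := l.foldr (fun s y => actT (gv s) y) x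

theorem M_mulVec (s : Gen) (x : T7) :
    ((M s : Matrix.GeneralLinearGroup I7 K) : Matrix I7 I7 K) *ᵥ vec x = vec (actT (gv s) x) :=
  nrefl_mulVec (gv s) x (hgv s) (hgv0 s)

theorem prod_mulVec (l : List Gen) (x : T7) :
    (((l.map M).prod : O7) : Matrix.GeneralLinearGroup I7 K).1 *ᵥ vec x = vec (actW l x) := by
  induction l with
  | nil =>
    simp only [List.map_nil, List.prod_nil, actW, List.foldr_nil]
    rw [iso_one_coe, Matrix.one_mulVec]
  | cons s l ih =>
    rw [List.map_cons, List.prod_cons, iso_mul_coe, ← Matrix.mulVec_mulVec, ih, M_mulVec]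
    rfl

/-- the standard basis -/
def basisT : List T7 :=
  [(1, 0, 0, 0, 0, 0, 0), (0, 1, 0, 0, 0, 0, 0), (0, 0, 1, 0, 0, 0, 0), (0, 0, 0, 1, 0, 0, 0),
   (0, 0, 0, 0, 1, 0, 0), (0, 0, 0, 0, 0, 1, 0), (0, 0, 0, 0, 0, 0, 1)]

theorem single_eq_vec (j : I7) : ∃ t ∈ basisT, vec t = Pi.single j 1 := by
  rcases j with j | j | j
  · cases j
    exact ⟨(1, 0, 0, 0, 0, 0, 0), by decide, by decide⟩
  · fin_cases j
    · exact ⟨(0, 1, 0, 0, 0, 0, 0), by decide, by decide⟩
    · exact ⟨(0, 0, 1, 0, 0, 0, 0), by decide, by decide⟩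
    · exact ⟨(0, 0, 0, 1, 0, 0, 0), by decide, by decide⟩
  · fin_cases j
    · exact ⟨(0, 0, 0, 0, 1, 0, 0), by decide, by decide⟩
    · exact ⟨(0, 0, 0, 0, 0, 1, 0), by decide, by decide⟩
    · exact ⟨(0, 0, 0, 0, 0, 0, 1), by decide, by decide⟩

theorem eq_one_of_basis (g : O7)
    (h : ∀ t ∈ basisT, ((g : Matrix.GeneralLinearGroup I7 K) : Matrix I7 I7 K) *ᵥ vec t = vec t) :
    g = 1 := by
  apply iso_ext'
  rw [iso_one_coe]
  ext i j
  obtain ⟨t, ht, hvt⟩ := single_eq_vec j
  have h1 := congrFun (h t ht) i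
  rw [hvt, Matrix.mulVec_single_one] at h1
  rw [Matrix.one_apply]
  rw [Pi.single_apply] at h1
  simpa [eq_comm] using h1

/-- a word acts trivially on the standard basis -/
def wordTriv (l : List Gen) : Bool := basisT.all fun t => decide (actW l t = t)

theorem prod_eq_one (l : List Gen) (h : wordTriv l = true) : (l.map M).prod = 1 := by
  apply eq_one_of_basis
  intro t ht
  rw [prod_mulVec]
  unfold wordTriv at h
  rw [List.all_eq_true] at h
  have := h t ht
  rw [decide_eq_true_eq] at this
  rw [this]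

theorem prod_replicate (l : List Gen) (k : ℕ) :
    ((List.replicate k l).flatten.map M).prod = ((l.map M).prod) ^ k := by
  induction k with
  | zero => simp
  | succ k ih =>
    rw [List.replicate_succ, List.flatten_cons, List.map_append, List.prod_append, ih, pow_succ']

theorem pow_prod_eq_one (l : List Gen) (k : ℕ) (h : wordTriv (List.replicate k l).flatten = true) :
    ((l.map M).prod) ^ k = 1 := by
  rw [← prod_replicate]
  exact prod_eq_one _ h

/-- all generators -/
def allGens : List Gen := [.b, .c, .d, .e, .f, .g, .h, .i]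

theorem mem_allGens (x : Gen) : x ∈ allGens := by cases x <;> decide

set_option maxRecDepth 100000 in
theorem cox_check : ∀ x ∈ allGens, ∀ y ∈ allGens,
    wordTriv (List.replicate (coxLabel Fi22P1.edges x y) [x, y]).flatten = true := by
  decide +kernel

set_option maxRecDepth 100000 in
theorem extra_check0 :
    wordTriv (List.replicate 10 [Fi22P1.Gen.d, .c, .b, .d, .e, .f, .d, .h, .i]).flatten = true := by
  decide +kernel

set_option maxRecDepth 100000 in
theorem extra_check1 :
    wordTriv (List.replicate 9 [Fi22P1.Gen.b, .c, .d, .e, .f, .g, .h]).flatten = true := by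
  decide +kernel

theorem M_cox (x y : Gen) : (M x * M y) ^ coxLabel Fi22P1.edges x y = 1 := by
  have h := pow_prod_eq_one [x, y] _ (cox_check x (mem_allGens x) y (mem_allGens y))
  have e : (List.map M [x, y]).prod = M x * M y := by
    simp only [List.map_cons, List.map_nil, List.prod_cons, List.prod_nil, mul_one]
  rw [e] at h
  exact h

theorem M_extra : ∀ r ∈ Fi22P1.extra, FreeGroup.lift M r = 1 := by
  intro r hr
  have hr' : r = (Fi22P1.d * Fi22P1.c * Fi22P1.b * Fi22P1.d * Fi22P1.e * Fi22P1.f * Fi22P1.d *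
      Fi22P1.h * Fi22P1.i) ^ 10 ∨ r = (Fi22P1.b * Fi22P1.c * Fi22P1.d * Fi22P1.e * Fi22P1.f *
      Fi22P1.g * Fi22P1.h) ^ 9 := by
    simpa only [Fi22P1.extra, List.mem_cons, List.not_mem_nil, or_false] using hr
  rcases hr' with rfl | rfl
  · have h := pow_prod_eq_one _ _ extra_check0
    have e : (List.map M [Fi22P1.Gen.d, .c, .b, .d, .e, .f, .d, .h, .i]).prod =
        M .d * M .c * M .b * M .d * M .e * M .f * M .d * M .h * M .i := by
      simp only [List.map_cons, List.map_nil, List.prod_cons, List.prod_nil, mul_one, mul_assoc]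
    rw [e] at h
    rw [map_pow]
    simp only [map_mul, FreeGroup.lift_apply_of]
    exact h
  · have h := pow_prod_eq_one _ _ extra_check1
    have e : (List.map M [Fi22P1.Gen.b, .c, .d, .e, .f, .g, .h]).prod =
        M .b * M .c * M .d * M .e * M .f * M .g * M .h := by
      simp only [List.map_cons, List.map_nil, List.prod_cons, List.prod_nil, mul_one, mul_assoc]
    rw [e] at h
    rw [map_pow]
    simp only [map_mul, FreeGroup.lift_apply_of]
    exact h

/-- the presented group -/
abbrev Grp : Type := Fi22P1.Grp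

/-- the homomorphism to the isometry group -/
theorem exists_psi : ∃ ψ : Grp →* O7, ∀ x, ψ (PresentedGroup.of x) = M x :=
  cox_hom Fi22P1.edges Fi22P1.extra M (fun x _ y _ => M_cox x y) M_extra

/-- the subgroup generated by the images of the generators -/
noncomputable def J : Subgroup O7 := Subgroup.closure (Set.range M)

theorem range_psi (ψ : Grp →* O7) (hψ : ∀ x, ψ (PresentedGroup.of x) = M x) : ψ.range = J := by
  rw [MonoidHom.range_eq_map, ← PresentedGroup.closure_range_of, MonoidHom.map_closure, J]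
  congr 1
  ext γ
  constructor
  · rintro ⟨_, ⟨x, rfl⟩, rfl⟩
    exact ⟨x, (hψ x).symm⟩
  · rintro ⟨x, rfl⟩
    exact ⟨_, ⟨x, rfl⟩, hψ x⟩

/-! ### the orbit -/

/-- the generator of a number -/
def gOf : ℕ → Gen
  | 0 => .b
  | 1 => .c
  | 2 => .d
  | 3 => .e
  | 4 => .f
  | 5 => .g
  | 6 => .h
  | _ => .i

/-- the list of vectors obtained from a tree -/
def grow : List T7 → List (ℕ × ℕ) → List T7
  | acc, [] => acc
  | acc, (p, s) :: t => grow (acc ++ [actT (gv (gOf s)) (acc.getD p (gv .b))]) t

set_option maxRecDepth 100000 in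
theorem orbL_eq : orbL = grow [gv .b] tab := by decide +kernel

/-- a vector is the image of the first vector under an element of the subgroup -/
def Reach (a : T7) : Prop :=
  ∃ g ∈ J, ((g : Matrix.GeneralLinearGroup I7 K) : Matrix I7 I7 K) *ᵥ vec (gv .b) = vec a

theorem reach_grow (t : List (ℕ × ℕ)) : ∀ acc : List T7, (∀ a ∈ acc, Reach a) →
    ∀ a ∈ grow acc t, Reach a := by
  induction t with
  | nil => intro acc h; exact h
  | cons e t ih =>
    intro acc h
    obtain ⟨p, s⟩ := e
    apply ih
    intro a ha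
    rw [List.mem_append, List.mem_singleton] at ha
    rcases ha with ha | rfl
    · exact h a ha
    · have hp : Reach (acc.getD p (gv .b)) := by
        rw [List.getD_eq_getElem?_getD]
        rcases hq : acc[p]? with _ | q
        · refine ⟨1, Subgroup.one_mem _, ?_⟩
          rw [iso_one_coe, Matrix.one_mulVec]
          rfl
        · exact h q (List.mem_of_getElem? hq)
      obtain ⟨g, hg, hgv⟩ := hp
      refine ⟨M (gOf s) * g, Subgroup.mul_mem _ (Subgroup.subset_closure ⟨_, rfl⟩) hg, ?_⟩
      rw [iso_mul_coe, ← Matrix.mulVec_mulVec, hgv, M_mulVec]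

theorem reach_orbL : ∀ a ∈ orbL, Reach a := by
  rw [orbL_eq]
  apply reach_grow
  intro a ha
  rw [List.mem_singleton] at ha
  subst ha
  refine ⟨1, Subgroup.one_mem _, ?_⟩
  rw [iso_one_coe, Matrix.one_mulVec]

/-- all elements of the field -/
def allK : List K := [0, 1, 2]

theorem mem_allK (x : K) : x ∈ allK := by revert x; decide

/-- a test on all tuples -/
def allT (P : T7 → Bool) : Bool :=
  allK.all fun a0 => allK.all fun a1 => allK.all fun a2 => allK.all fun a3 => allK.all fun a4 =>
    allK.all fun a5 => allK.all fun a6 => P (a0, a1, a2, a3, a4, a5, a6)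

theorem allT_spec (P : T7 → Bool) (h : allT P = true) (a : T7) : P a = true := by
  obtain ⟨a0, a1, a2, a3, a4, a5, a6⟩ := a
  simp only [allT, List.all_eq_true] at h
  exact h a0 (mem_allK a0) a1 (mem_allK a1) a2 (mem_allK a2) a3 (mem_allK a3) a4 (mem_allK a4)
    a5 (mem_allK a5) a6 (mem_allK a6)

set_option maxRecDepth 100000 in
theorem complete_check : allT (fun a => decide (qT a = 2 → a ∈ orbL)) = true := by
  decide +kernel

theorem complete (a : T7) (ha : qT a = 2) : a ∈ orbL := by
  have := allT_spec _ complete_check a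
  rw [decide_eq_true_eq] at this
  exact this ha

/-- the negative of every reflection in a vector of norm two lies in the subgroup -/
theorem nrefl_mem (u : I7 → K) (hu2 : Q7 u = 2) (hu : Q7 u ≠ 0) : nrefl u hu ∈ J := by
  have hq : qT (tup u) = 2 := by rw [← Q7_vec, vec_tup]; exact hu2
  obtain ⟨g, hg, hgu⟩ := reach_orbL _ (complete _ hq)
  rw [vec_tup] at hgu
  have hu' : Q7 (((g : Matrix.GeneralLinearGroup I7 K) : Matrix I7 I7 K) *ᵥ vec (gv .b)) ≠ 0 := by
    rw [hgu]; exact hu
  have h1 := nrefl_conj g (vec (gv .b)) (hgv0 .b) hu'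
  have h2 : nrefl (((g : Matrix.GeneralLinearGroup I7 K) : Matrix I7 I7 K) *ᵥ vec (gv .b)) hu' =
      nrefl u hu := by
    congr 1
  rw [← h2, ← h1]
  exact Subgroup.mul_mem _ (Subgroup.mul_mem _ hg (Subgroup.subset_closure ⟨.b, rfl⟩))
    (Subgroup.inv_mem _ hg)

theorem J_normal : J.Normal := by
  constructor
  intro n hn h
  have hle : J ≤ J.comap (MulAut.conj h).toMonoidHom := by
    unfold J
    rw [Subgroup.closure_le]
    rintro _ ⟨s, rfl⟩
    show h * M s * h⁻¹ ∈ Subgroup.closure (Set.range M)
    have hu' : Q7 (((h : Matrix.GeneralLinearGroup I7 K) : Matrix I7 I7 K) *ᵥ vec (gv s)) ≠ 0 := by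
      have := iso_pres (⇑Q7) h (vec (gv s))
      rw [this]
      exact hgv0 s
    have h1 : h * M s * h⁻¹ = _ := nrefl_conj h (vec (gv s)) (hgv0 s) hu'
    rw [h1]
    apply nrefl_mem
    have := iso_pres (⇑Q7) h (vec (gv s))
    rw [this, Q7_vec, hgv]
  exact hle hn

/-! ### the presented group is perfect -/

theorem hmk (r : FreeGroup Gen) (hr : r ∈ coxRelators Fi22P1.edges ∪ {r | r ∈ Fi22P1.extra}) :
    (PresentedGroup.mk (coxRelators Fi22P1.edges ∪ {r | r ∈ Fi22P1.extra}) r) = 1 :=
  PresentedGroup.one_of_mem hr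

theorem mem_nodes (x : Gen) : x ∈ coxNodes Fi22P1.edges := by cases x <;> decide

theorem of_cox (x y : Gen) :
    ((PresentedGroup.of x : Grp) * PresentedGroup.of y) ^ coxLabel Fi22P1.edges x y = 1 := by
  have := hmk ((FreeGroup.of x * FreeGroup.of y) ^ coxLabel Fi22P1.edges x y)
    (Or.inl ⟨x, mem_nodes x, y, mem_nodes y, rfl⟩)
  rw [map_pow, map_mul] at this
  exact this

theorem perfect : commutator Grp = ⊤ := by
  refine commutator_eq_top_of_braid (fun x : Gen => (PresentedGroup.of x : Grp))
    (PresentedGroup.closure_range_of _) ?_ (fun x y => coxLabel Fi22P1.edges x y = 3) ?_ .b ?_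
    [.b, .c, .d, .e, .f, .g, .h] 9 ?_ (by decide)
  · intro x
    have := of_cox x x
    rw [show coxLabel Fi22P1.edges x x = 1 by cases x <;> decide, pow_one] at this
    exact this
  · intro x y hxy
    have := of_cox x y
    rw [hxy] at this
    exact this
  · intro P hb hstep y
    have hc : P .c := hstep .b .c (by decide) hb
    have hd : P .d := hstep .c .d (by decide) hc
    have he : P .e := hstep .d .e (by decide) hd
    have hf : P .f := hstep .e .f (by decide) he
    have hg : P .g := hstep .f .g (by decide) hf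
    have hh : P .h := hstep .d .h (by decide) hd
    have hi : P .i := hstep .h .i (by decide) hh
    cases y <;> assumption
  · have h1 := hmk ((Fi22P1.b * Fi22P1.c * Fi22P1.d * Fi22P1.e * Fi22P1.f * Fi22P1.g * Fi22P1.h) ^ 9)
      (Or.inr (List.mem_cons_of_mem _ List.mem_cons_self))
    have h2 : (List.map (fun x : Gen => (PresentedGroup.of x : Grp))
        [.b, .c, .d, .e, .f, .g, .h]).prod =
        PresentedGroup.mk (coxRelators Fi22P1.edges ∪ {r | r ∈ Fi22P1.extra})
          (Fi22P1.b * Fi22P1.c * Fi22P1.d * Fi22P1.e * Fi22P1.f * Fi22P1.g * Fi22P1.h) := by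
      simp only [List.map_cons, List.map_nil, List.prod_cons, List.prod_nil, map_mul, mul_one,
        mul_assoc]
      rfl
    rw [h2, ← map_pow]
    exact h1

theorem J_le_commutator : J ≤ commutator O7 := by
  obtain ⟨ψ, hψ⟩ := exists_psi
  rw [← range_psi ψ hψ, MonoidHom.range_eq_map, ← perfect, commutator_def, commutator_def,
    Subgroup.map_commutator]
  exact Subgroup.commutator_mono le_top le_top

end Cfsg.Agent.Lib.Helper12.O73
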