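import Mathlib
import Cfsg.Prelude.Def_Classical
import Cfsg.Prelude.Def_ClassicalGeometry
import Cfsg.Agent.Lib.Helper16.SpinA

/-!
The orthogonal space of dimension seven over the field with three elements in coordinates: vectors as
tuples, the quadratic form, and the negatives of reflections acting on tuples (helper12).
-/

set_option autoImplicit false

namespace Cfsg.Agent.Lib.Helper12.O73

open Matrix Cfsg.Agent.Lib.Helper16 Cfsg.Agent.Lib.helper6

/-- the field with three elements -/
abbrev K : Type := ZMod 3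

/-- the index type of the coordinates -/
abbrev I7 : Type := Unit ⊕ (Fin 3 ⊕ Fin 3)

/-- the coordinates of a vector -/
abbrev T7 : Type := K × K × K × K × K × K × K

instance decEqT2 : DecidableEq (K × K) := inferInstance
instance decEqT3 : DecidableEq (K × K × K) := inferInstance
instance decEqT4 : DecidableEq (K × K × K × K) := inferInstance
instance decEqT5 : DecidableEq (K × K × K × K × K) := inferInstance
instance decEqT6 : DecidableEq (K × K × K × K × K × K) := inferInstance
instance decEqT7 : DecidableEq T7 := inferInstance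

/-- the vector of a tuple -/
def vec (a : T7) : I7 → K :=
  Sum.elim (fun _ => a.1)
    (Sum.elim ![a.2.1, a.2.2.1, a.2.2.2.1] ![a.2.2.2.2.1, a.2.2.2.2.2.1, a.2.2.2.2.2.2])

/-- the tuple of a vector -/
def tup (u : I7 → K) : T7 :=
  (u (.inl ()), u (.inr (.inl 0)), u (.inr (.inl 1)), u (.inr (.inl 2)),
    u (.inr (.inr 0)), u (.inr (.inr 1)), u (.inr (.inr 2)))

theorem vec_tup (u : I7 → K) : vec (tup u) = u := by
  funext i
  rcases i with i | i | i
  · rfl
  · fin_cases i <;> rfl
  · fin_cases i <;> rfl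

theorem vec_add (a b : T7) : vec (a + b) = vec a + vec b := by
  funext i
  rcases i with i | i | i
  · rfl
  · fin_cases i <;> rfl
  · fin_cases i <;> rfl

theorem vec_neg (a : T7) : vec (-a) = -vec a := by
  funext i
  rcases i with i | i | i
  · rfl
  · fin_cases i <;> rfl
  · fin_cases i <;> rfl

theorem vec_smul (s : K) (a : T7) : vec (s • a) = s • vec a := by
  funext i
  rcases i with i | i | i
  · rfl
  · fin_cases i <;> rfl
  · fin_cases i <;> rfl

/-- the quadratic form on tuples -/
def qT (a : T7) : K :=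
  a.1 ^ 2 + (a.2.1 * a.2.2.2.2.1 + a.2.2.1 * a.2.2.2.2.2.1 + a.2.2.2.1 * a.2.2.2.2.2.2)

theorem quad_vec (a : T7) : Cfsg.quadFormOdd 3 K (vec a) = qT a := by
  simp [Cfsg.quadFormOdd, vec, qT, Fin.sum_univ_three]

/-- the polar form on tuples -/
def pT (a b : T7) : K := qT (a + b) - qT a - qT b

/-- the quadratic form as a quadratic form -/
noncomputable def Q7 : QuadraticForm K (I7 → K) :=
  let E : QuadraticForm K (I7 → K) :=
    QuadraticMap.sq.comp (LinearMap.proj (Sum.inl ())) +
      ∑ i : Fin 3, QuadraticMap.linMulLin (LinearMap.proj (Sum.inr (Sum.inl i)))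
        (LinearMap.proj (Sum.inr (Sum.inr i)))
  have h : ∀ v, E v = Cfsg.quadFormOdd 3 K v := by
    intro v
    simp [E, Cfsg.quadFormOdd, pow_two]
  { toFun := Cfsg.quadFormOdd 3 K
    toFun_smul := fun a x => by rw [← h, ← h, QuadraticMap.map_smul]
    exists_companion' := ⟨E.exists_companion.choose, fun x y => by
      rw [← h, ← h, ← h]; exact E.exists_companion.choose_spec x y⟩ }

theorem Q7_coe : ⇑Q7 = Cfsg.quadFormOdd 3 K := rfl

theorem Q7_vec (a : T7) : Q7 (vec a) = qT a := quad_vec a

theorem polar_vec (a b : T7) : QuadraticMap.polar (⇑Q7) (vec a) (vec b) = pT a b := by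
  unfold QuadraticMap.polar pT
  rw [← vec_add, Q7_vec, Q7_vec, Q7_vec]

/-- the action of the negative of the reflection in the vector of `a` on tuples (for `qT a = 2`) -/
def actT (a x : T7) : T7 := -x + (2 * pT a x) • a

theorem two_inv : (2 : K)⁻¹ = 2 :=
  inv_eq_of_mul_eq_one_right (by decide : (2 : K) * 2 = 1)

/-- the negative of the identity as an isometry -/
def negOne : ↥(Cfsg.isometryGroup K ⇑Q7) :=
  ⟨-1, by
    rw [mem_iso_iff]
    intro x
    rw [Units.val_neg, Units.val_one, Matrix.neg_mulVec, Matrix.one_mulVec]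
    exact QuadraticMap.map_neg Q7 x⟩

theorem negOne_coe : ((negOne : Matrix.GeneralLinearGroup I7 K) : Matrix I7 I7 K) = -1 := rfl

theorem negOne_comm (g : ↥(Cfsg.isometryGroup K ⇑Q7)) : negOne * g = g * negOne := by
  apply iso_ext'
  rw [iso_mul_coe, iso_mul_coe, negOne_coe, neg_one_mul, mul_neg_one]

theorem negOne_mul_self : negOne * negOne = 1 := by
  apply iso_ext'
  rw [iso_mul_coe, negOne_coe, neg_one_mul, neg_neg]
  rfl

/-- the negative of the reflection in a vector of norm two -/
noncomputable def nrefl (u : I7 → K) (hu : Q7 u ≠ 0) : ↥(Cfsg.isometryGroup K ⇑Q7) :=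
  negOne * reflG Q7 u hu

theorem nrefl_mulVec (a x : T7) (ha : qT a = 2) (hu : Q7 (vec a) ≠ 0) :
    ((nrefl (vec a) hu : Matrix.GeneralLinearGroup I7 K) : Matrix I7 I7 K) *ᵥ vec x =
      vec (actT a x) := by
  unfold nrefl
  rw [iso_mul_coe, negOne_coe, reflG_coe, neg_one_mul, Matrix.neg_mulVec, reflectionMatrix_mulVec,
    Q7_vec, ha, two_inv, polar_vec]
  unfold actT
  rw [vec_add, vec_neg, vec_smul]
  abel

/-- conjugating the negative of a reflection -/
theorem nrefl_conj (h : ↥(Cfsg.isometryGroup K ⇑Q7)) (u : I7 → K) (hu : Q7 u ≠ 0)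
    (hu' : Q7 (((h : Matrix.GeneralLinearGroup I7 K) : Matrix I7 I7 K) *ᵥ u) ≠ 0) :
    h * nrefl u hu * h⁻¹ =
      nrefl (((h : Matrix.GeneralLinearGroup I7 K) : Matrix I7 I7 K) *ᵥ u) hu' := by
  unfold nrefl
  rw [← refl_conj Q7 h u hu hu', ← mul_assoc, ← negOne_comm h, mul_assoc negOne, mul_assoc negOne]

end Cfsg.Agent.Lib.Helper12.O73
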